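import Cfsg.Agent.H907.L33.Two
import Cfsg.Agent.H915.L33Core
import Cfsg.Agent.H175.LD.Core33
import Cfsg.Agent.H919.QuadTwo
import Cfsg.Agent.H114.AltTy
import Cfsg.Agent.H114.TyTwo

/-!
# Cores of degree 12 with socle `L₃(3)` in characteristic 2 (helper907)

* `two_main` : `|F| = 2`, `SD P`, `Fr P 2`, `FixQ P`, and every non-degenerate quadratic form fixed by `P` is of minus
  type.
-/

set_option autoImplicit false
set_option linter.unusedSectionVars false

namespace Cfsg.Agent.H907.L33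

open Cfsg Cfsg.Geo Matrix Module Cfsg.Agent.H915.LD Cfsg.Agent.H915.Idem
open Cfsg.Agent.H915.L33 hiding rep rep_apply

universe u v

variable {ι : Type} [Fintype ι] [DecidableEq ι] {F : Type u} [Field F] {P : Subgroup (GL ι F)}

theorem exists_rp (hC : Core P) (e : Soc P ≃* T33) (n3 : (3 : F) ≠ 0) (hι : Fintype.card ι ≤ 12) :
    ∃ (θ : G ≃* P) (C : End F (ι → F)), Rp (H915.L33.rep θ) C ∧ C ≠ 0 := by
  obtain ⟨θ⟩ := H915.L33.exists_equiv hC e
  have hdim : finrank F (ι → F) ≤ 12 := by rw [finrank_fintype_fun_eq_card]; exact hι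
  have hne : ∀ g : G, g ≠ 1 → H915.L33.rep θ g ≠ 1 := by
    intro g hg h
    apply hg
    apply θ.injective
    rw [map_one]
    apply Subtype.ext
    apply Units.ext
    have h1 : Matrix.toLinAlgEquiv' ((θ g : P) : GL ι F).1 = (1 : End F (ι → F)) := h
    rw [← map_one (Matrix.toLinAlgEquiv' : Matrix ι ι F ≃ₐ[F] _)] at h1
    exact Matrix.toLinAlgEquiv'.injective h1
  have n1 : x12 ≠ 1 := by
    intro h
    exact absurd (congrArg Subtype.val h) (by decide)
  have n1' : x23 ≠ 1 := by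
    intro h
    exact absurd (congrArg Subtype.val h) (by decide)
  obtain ⟨C, O, r1, r2, -, -⟩ := exists_op (full (H915.L33.rep θ)) n3 (by omega) (hne _ n1) (hne _ n1')
  refine ⟨θ, C, ⟨n3, fun W hW => ?_, hne _ n1, O⟩, C_ne O n3 hdim r1⟩
  refine hC.absIrred.1 W fun s hs => ?_
  obtain ⟨g, hg, rfl⟩ := hs
  rintro _ ⟨v, hv, rfl⟩
  have h := hW (θ.symm ⟨g, hg⟩) v hv
  rw [H915.L33.rep_apply, MulEquiv.apply_symm_apply] at h
  rwa [Matrix.toLin'_apply]

/-- the data in characteristic two -/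
structure D2 (ρ : G →* End F (ι → F)) (w : ι → F) : Prop where
  hw : ∀ g : G, g.1 1 0 = 0 → g.1 2 0 = 0 → ρ g w = w
  w0 : w ≠ 0
  S : Cfsg.Agent.H882.Del.Sys F (fun i => vv ρ w (pt i))

theorem exists_d2 (hC : Core P) (e : Soc P ≃* T33) (n2 : (2 : F) = 0) (hι : Fintype.card ι = 12) :
    ∃ (θ : G ≃* P) (w : ι → F), D2 (H915.L33.rep θ) w := by
  have n3 : (3 : F) ≠ 0 := by
    intro h
    have : (1 : F) = 0 := by linear_combination h - n2
    exact one_ne_zero this
  obtain ⟨θ, C, T, hC0⟩ := exists_rp hC e n3 hι.le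
  obtain ⟨w, w0, hw⟩ := T.exists_fixed_two hC0 n2
  have hdim : finrank F (ι → F) = 12 := by rw [finrank_fintype_fun_eq_card, hι]
  exact ⟨θ, w, hw, w0, sys' _ w hw T.irr T.ne hdim w0⟩

/-- a Singer cycle -/
def SING : Matrix (Fin 3) (Fin 3) (ZMod 3) := !![0, 0, 1; 1, 0, 1; 0, 1, 0]

/-- the 13-cycle of a Singer cycle -/
def TAU : Fin 13 → Fin 13 := ![0, 1, 2, 3, 7, 9, 11, 12, 5, 4, 8, 10, 6]

theorem sing_det : SING.det = 1 := by decide

theorem sing_pow : SING * SING * SING = 1 + SING := by decide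

/-- a Singer cycle -/
def sg : G := ⟨SING, sing_det⟩

theorem sg_pow : sg ^ 13 = 1 := by
  apply Subtype.ext
  have h : (sg ^ 13).1 = SING ^ 13 := rfl
  rw [h]
  have h9 : (1 + SING) * (1 + SING) * (1 + SING) = SING * SING * SING + 1 := by decide
  have h10 : (SING * SING * SING + 1) * (1 + SING) * SING = 1 + 0 := by decide
  have e1 : SING ^ 13 = (SING * SING * SING) * (SING * SING * SING) * (SING * SING * SING) *
      ((SING * SING * SING) * SING) := by noncomm_ring
  rw [e1, sing_pow, h9]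
  rw [← mul_assoc, h10, add_zero]
  rfl

section d2

variable {ρ : G →* End F (ι → F)} {w : ι → F} (D : D2 ρ w)

include D

/-- the vectors -/
theorem D2.zero : vv ρ w (pt 0) = w := vv_e1 ρ w D.hw

/-- the stabiliser of a point has index 13 -/
theorem D2.index : (fixK ρ w).index = 13 := by
  classical
  let act : MulAction G (ι → F) :=
    { smul := fun g v => ρ g v
      one_smul := fun v => by
        change ρ 1 v = v
        rw [map_one]; rfl
      mul_smul := fun g h v => mul_ap ρ g h v }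
  have h1 : MulAction.stabilizer G w = fixK ρ w := by
    ext g
    exact MulAction.mem_stabilizer_iff
  rw [← h1, MulAction.index_stabilizer]
  have h2 : MulAction.orbit G w = Set.range (fun i => vv ρ w (pt i)) := by
    ext v
    constructor
    · rintro ⟨g, rfl⟩
      obtain ⟨σ, hσ⟩ := exists_perm13 ρ w D.hw g
      refine ⟨σ 0, ?_⟩
      have h3 := hσ 0
      rw [D.zero] at h3
      exact h3.symm
    · rintro ⟨i, rfl⟩
      obtain ⟨m, hm⟩ := exists_mk (pt i) (pt_ne i)
      refine ⟨m, ?_⟩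
      exact (vv_eq ρ w D.hw (Or.inl hm)).symm
  rw [h2]
  have hinj : Function.Injective (fun i => vv ρ w (pt i)) := D.S.injective (by rw [Fintype.card_fin]; norm_num)
  have h3 : (Set.range fun i => vv ρ w (pt i)).ncard = Nat.card (Fin 13) := Nat.card_range_of_injective hinj
  rw [h3, Nat.card_eq_fintype_card, Fintype.card_fin]

/-- an element of order 13 without non-zero fixed vectors -/
theorem D2.free (h13 : (13 : F) ≠ 0) : ∃ g : G, g ^ 13 = 1 ∧ ∀ v, ρ g v = v → v = 0 := by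
  obtain ⟨g, τ, hτ, hg, hg13⟩ : ∃ (g : G) (τ : Fin 13 → Fin 13), Function.Injective τ ∧
      (∀ k, g.1 *ᵥ pt (τ k) = pt (τ (k + 1)) ∨ g.1 *ᵥ pt (τ k) = -pt (τ (k + 1))) ∧ g ^ 13 = 1 := by
    exact ⟨sg, TAU, by decide, by decide, sg_pow⟩
  refine ⟨g, hg13, fun v hv => ?_⟩
  have hu : ∀ k, ρ g (vv ρ w (pt (τ k))) = vv ρ w (pt (τ (k + 1))) := by
    intro k
    rw [vv_smul ρ w D.hw]
    rcases hg k with h | h
    · rw [h]
    · rw [h, vv_neg ρ w D.hw]
  have hsum : ∑ k, vv ρ w (pt (τ k)) = 0 := by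
    rw [← D.S.sum]
    exact Function.Bijective.sum_comp (Finite.injective_iff_bijective.1 hτ) (fun i => vv ρ w (pt i))
  have hof : ∀ n : ℕ, Fin.ofNat 13 (n + 1) = Fin.ofNat 13 n + 1 := by
    intro n
    apply Fin.ext
    simp [Fin.val_add]
  have hpow : ∀ (n : ℕ) (k : Fin 13), (ρ g ^ n) (vv ρ w (pt (τ k))) = vv ρ w (pt (τ (k + Fin.ofNat 13 n))) := by
    intro n
    induction n with
    | zero =>
      intro k
      have h0 : Fin.ofNat 13 0 = 0 := rfl
      rw [h0, add_zero]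
      rfl
    | succ n ih =>
      intro k
      rw [pow_succ', Module.End.mul_apply, ih, hu, hof, add_assoc]
  have hA : ∑ n : Fin 13, ρ g ^ (n : ℕ) = 0 := by
    apply D.S.ext
    intro i
    obtain ⟨k, rfl⟩ := (Finite.injective_iff_surjective.1 hτ) i
    rw [LinearMap.sum_apply, LinearMap.zero_apply]
    rw [← hsum]
    refine Eq.trans (Finset.sum_congr rfl fun n _ => hpow n k) ?_
    have h1 : ∀ n : Fin 13, Fin.ofNat 13 (n : ℕ) = n := fun n => Fin.ext (Nat.mod_eq_of_lt n.2)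
    simp only [h1]
    exact Equiv.sum_comp (Equiv.addLeft k) (fun k => vv ρ w (pt (τ k)))
  have hvn : ∀ n : ℕ, (ρ g ^ n) v = v := by
    intro n
    induction n with
    | zero => rfl
    | succ n ih => rw [pow_succ', Module.End.mul_apply, ih, hv]
  have h2 := LinearMap.congr_fun hA v
  have h4 : ∑ n : Fin 13, (ρ g ^ (n : ℕ)) v = ∑ _n : Fin 13, v := Finset.sum_congr rfl fun n _ => hvn n
  rw [LinearMap.sum_apply, h4, Finset.sum_const, Finset.card_univ, Fintype.card_fin, LinearMap.zero_apply] at h2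
  have h3 : (13 : F) • v = 0 := by
    rw [← h2]
    exact (Nat.cast_smul_eq_nsmul F 13 v)
  exact (smul_eq_zero.1 h3).resolve_left h13

end d2

theorem fixQ_of_d2 [Finite F] (hC : Core P) (hsd : SD P) (n2 : (2 : F) = 0) {θ : G ≃* P} {w : ι → F}
    (D : D2 (H915.L33.rep θ) w) : FixQ P := by
  classical
  rcases hC.forms_of_sd hsd with h | ⟨f, hf, hfix⟩
  · exact h
  have hP : H919.Q2.InvB P f := fun g hg v w => hfix _ ⟨g, hg, rfl⟩ v w
  let K : Subgroup (GL ι F) := (fixK (H915.L33.rep θ) w).map (P.subtype.comp θ.toMonoidHom)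
  have hKP : K ≤ P := by
    rintro _ ⟨x, -, rfl⟩
    exact (θ x).2
  have hidx : K.relIndex P = 13 := by
    have h1 : (K.subgroupOf P).comap θ.toMonoidHom = fixK (H915.L33.rep θ) w := by
      ext x
      rw [Subgroup.mem_comap, Subgroup.mem_subgroupOf]
      constructor
      · rintro ⟨y, hy, hxy⟩
        have h2 : θ y = θ x := Subtype.ext hxy
        rw [← θ.injective h2]
        exact hy
      · intro hx
        exact ⟨x, hx, rfl⟩
    have h2 := Subgroup.index_comap_of_surjective (K.subgroupOf P) (f := θ.toMonoidHom) θ.surjective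
    rw [h1, D.index] at h2
    exact h2.symm
  refine H919.Q2.fixQ_of_sub n2 hf hP hKP (by rw [hidx]; decide) ?_
  refine H919.Q2.of_monomial n2 hf (fun g hg => hP g (hKP hg)) (H114.AltTy.basis D.S 0) ?_
  rintro _ ⟨x, hx, rfl⟩ i
  obtain ⟨σ, hσ⟩ := exists_perm13 (H915.L33.rep θ) w D.hw x
  have hinj : Function.Injective (fun i => vv (H915.L33.rep θ) w (pt i)) :=
    D.S.injective (by rw [Fintype.card_fin]; norm_num)
  have h0 : σ 0 = 0 := by
    apply hinj
    have h3 := hσ 0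
    rw [D.zero] at h3
    have hx' : H915.L33.rep θ x w = w := hx
    rw [hx'] at h3
    change vv (H915.L33.rep θ) w (pt (σ 0)) = vv (H915.L33.rep θ) w (pt 0)
    rw [← h3, D.zero]
  have hi : σ i ≠ 0 := by
    intro h
    apply i.2
    apply σ.injective
    rw [h, h0]
  refine ⟨1, ⟨σ i, hi⟩, ?_⟩
  rw [one_smul, H114.AltTy.basis_apply, H114.AltTy.basis_apply]
  exact hσ i

theorem pow_key : ((2 : ℕ) : ZMod 13) ^ 6 ≠ 1 := by decide

/-- **Cores of degree 12 with socle `L₃(3)` in characteristic 2** -/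
theorem two_main [Fintype F] [CharP F 2] (hC : Core P) {K : Type v} [Field K] [Fintype K]
    (hK : Fintype.card K = 3) (e : Soc P ≃* Matrix.ProjectiveSpecialLinearGroup (Fin 3) K)
    (hι : Fintype.card ι = 12) :
    Fintype.card F = 2 ∧ SD P ∧ Fr P 2 ∧ FixQ P ∧ (scalars ι F).subgroupOf P = ⊥ ∧
      ∀ Q : (ι → F) → F, IsNondegenerateQuadraticForm Q → FixesQuadForm (matrixSet P) Q → ¬ IsPlusTypeOn Q ⊤ := by
  have hp2 : Fact (Nat.Prime 2) := ⟨Nat.prime_two⟩
  have n2 : (2 : F) = 0 := by exact_mod_cast CharP.cast_eq_zero F 2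
  obtain ⟨hs, hsd, hfr, -⟩ := H175.L33.l33 hC 2 (by norm_num) hK e hι.le
  have hcard := hC.card_eq 2 hfr
  let e' : Soc P ≃* T33 := e.trans
    (LieClassical.FieldTransfer.pslCongr (ZMod.ringEquivOfPrime K (by norm_num) hK)).symm
  obtain ⟨θ, w, D⟩ := exists_d2 hC e' n2 hι
  refine ⟨hcard, hsd, hfr, fixQ_of_d2 hC hsd n2 D, hs, fun Q hQ hfix hplus => ?_⟩
  have h13 : (13 : F) ≠ 0 := by
    intro h
    have : (1 : F) = 0 := by linear_combination h - 6 * n2
    exact one_ne_zero this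
  obtain ⟨g, hg, hfree⟩ := D.free h13
  have : Fact (Nat.Prime 13) := ⟨by norm_num⟩
  have h1 := H114.Ty.pow_eq_one_of_free (F := F) (r := 13) (by norm_num) hQ hplus (m := 6) (by rw [hι])
    (g := ((θ g : P) : GL ι F)) (by
      have h2 : ((θ g : P) : GL ι F) ^ 13 = ((θ (g ^ 13) : P) : GL ι F) := by
        rw [map_pow]; rfl
      rw [h2, hg, map_one]; rfl)
    (fun v => hfix _ ⟨_, (θ g).2, rfl⟩ v) (fun v hv => hfree v hv)
  rw [hcard] at h1
  exact pow_key h1

end Cfsg.Agent.H907.L33
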