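import Cfsg.Agent.H915.L33Gen

/-!
# `SL₃(3)`: the Bruhat decomposition (helper907)
-/

set_option autoImplicit false
set_option linter.unusedSectionVars false

namespace Cfsg.Agent.H907.L33

open Matrix Cfsg.Agent.H915.L33

/-- `u` is in the group generated by `x₁₂, x₁₃, x₂₃` -/
def InU (u : G) : Prop := ∀ K : Subgroup G, x12 ∈ K → x13 ∈ K → x23 ∈ K → u ∈ K

/-- `r` is in the group generated by `x₁₂, x₁₃` and the torus -/
def InR (r : G) : Prop := ∀ K : Subgroup G, x12 ∈ K → x13 ∈ K → h1 ∈ K → h2 ∈ K → h3 ∈ K → r ∈ K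

theorem InU.one : InU 1 := fun K _ _ _ => K.one_mem
theorem InU.mul {u v : G} (hu : InU u) (hv : InU v) : InU (u * v) :=
  fun K a b c => K.mul_mem (hu K a b c) (hv K a b c)
theorem InU.inv {u : G} (hu : InU u) : InU u⁻¹ := fun K a b c => K.inv_mem (hu K a b c)
theorem InU.u12 (t : ZMod 3) : InU (u12 t) := fun _ a _ _ => u12_mem a t
theorem InU.u13 (t : ZMod 3) : InU (u13 t) := fun _ _ b _ => u13_mem b t
theorem InU.u23 (t : ZMod 3) : InU (u23 t) := fun _ _ _ c => u23_mem c t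

theorem s12_u23 (i : ZMod 3) : s12 * u23 i = u13 (2 * i) * s12 := by
  apply Subtype.ext
  revert i
  decide

theorem s23_u13 (i : ZMod 3) : s23 * u13 i = u12 (2 * i) * s23 := by
  apply Subtype.ext
  revert i
  decide

theorem upper_form (g : G) (h10 : g.1 1 0 = 0) (h20 : g.1 2 0 = 0) (h21 : g.1 2 1 = 0) :
    ∃ (i : ZMod 3) (r : G), InR r ∧ g = u23 i * r := by
  have he : g.1 = !![g.1 0 0, g.1 0 1, g.1 0 2; 0, g.1 1 1, g.1 1 2; 0, 0, g.1 2 2] := by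
    have h := Matrix.eta_fin_three g.1
    rw [h10, h20, h21] at h
    exact h
  have hd : g.1 0 0 * g.1 1 1 * g.1 2 2 = 1 := by
    have h := g.2
    rw [Matrix.det_fin_three, h10, h20, h21] at h
    linear_combination h
  have hw := upper _ (g.1 0 1) (g.1 0 2) _ (g.1 1 2) _ hd
  rw [← he] at hw
  have key : g = u23 (g.1 1 2 * g.1 2 2) * (u12 (g.1 0 1 * g.1 1 1) * (u13 (g.1 0 2 * g.1 2 2) *
      ⟨D (g.1 0 0) (g.1 1 1) (g.1 2 2), by
        unfold D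
        rw [Matrix.det_fin_three]
        simp
        exact hd⟩)) := Subtype.ext hw
  refine ⟨_, _, ?_, key⟩
  intro K ka kb k1 k2 k3
  exact K.mul_mem (u12_mem ka _) (K.mul_mem (u13_mem kb _) (torus_mem k1 k2 k3 _ rfl))

theorem point_form (g : G) (h10 : g.1 1 0 = 0) (h20 : g.1 2 0 = 0) :
    ∃ (i : ZMod 3) (r : G), InR r ∧ (g = u23 i * r ∨ ∃ j, g = u23 i * (s23 * (u23 j * r))) := by
  by_cases h21 : g.1 2 1 = 0
  · obtain ⟨i, r, hr, h⟩ := upper_form g h10 h20 h21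
    exact ⟨i, r, hr, Or.inl h⟩
  have he : g.1 = !![g.1 0 0, g.1 0 1, g.1 0 2; 0, g.1 1 1, g.1 1 2; 0, g.1 2 1, g.1 2 2] := by
    have h := Matrix.eta_fin_three g.1
    rw [h10, h20] at h
    exact h
  have hd : g.1 0 0 * (g.1 1 1 * g.1 2 2 - g.1 1 2 * g.1 2 1) = 1 := by
    have h := g.2
    rw [Matrix.det_fin_three, h10, h20] at h
    linear_combination h
  obtain ⟨a, b, t1, t2, hw⟩ := lower _ (g.1 0 1) (g.1 0 2) _ _ _ _ hd h21
  rw [← he] at hw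
  set t := g.1 1 1 * g.1 2 1
  have hU : (s23⁻¹ * (u23 t)⁻¹ * g).1 = !![2 * g.1 0 0, a, b; 0, t1, t2; 0, 0, (2 * g.1 0 0 * t1)] := by
    have e1 : u23 t * (s23 * (s23⁻¹ * (u23 t)⁻¹ * g)) = g := by group
    have e2 : (u23 t).1 * (s23.1 * (s23⁻¹ * (u23 t)⁻¹ * g).1) =
        X23 t * (S * !![2 * g.1 0 0, a, b; 0, t1, t2; 0, 0, (2 * g.1 0 0 * t1)]) := by
      rw [← hw]
      exact congrArg Subtype.val e1
    have e3 : (u23 t)⁻¹.1 * (u23 t).1 = 1 := congrArg Subtype.val (inv_mul_cancel (u23 t))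
    have e4 : (s23)⁻¹.1 * (s23).1 = 1 := congrArg Subtype.val (inv_mul_cancel s23)
    exact cancel e3 e4 e2
  obtain ⟨j, r, hr, hm⟩ := upper_form (s23⁻¹ * (u23 t)⁻¹ * g) (by rw [hU]; rfl) (by rw [hU]; rfl) (by rw [hU]; rfl)
  refine ⟨t, r, hr, Or.inr ⟨j, ?_⟩⟩
  rw [← hm]
  group

theorem col_one (v : ZMod 3) (M : Matrix (Fin 3) (Fin 3) (ZMod 3)) :
    (s12.1 * (X12 v * M)) 1 0 = M 0 0 + v * M 1 0 ∧ (s12.1 * (X12 v * M)) 2 0 = 2 * M 2 0 := by
  constructor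
  · simp [Matrix.mul_apply, Matrix.vecMul, dotProduct, Fin.sum_univ_three, s12, X12]
  · simp [Matrix.mul_apply, Matrix.vecMul, dotProduct, Fin.sum_univ_three, s12, X12]

theorem col_two (v w : ZMod 3) (M : Matrix (Fin 3) (Fin 3) (ZMod 3)) :
    (s12.1 * (s23.1 * (X13 v * (X23 w * M)))) 1 0 = 2 * (M 0 0 + v * M 2 0) ∧
    (s12.1 * (s23.1 * (X13 v * (X23 w * M)))) 2 0 = 2 * (M 1 0 + w * M 2 0) := by
  constructor
  · simp [Matrix.mul_apply, Matrix.vecMul, dotProduct, Fin.sum_univ_three, s12, s23, X13, X23]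
    ring
  · simp [Matrix.mul_apply, Matrix.vecMul, dotProduct, Fin.sum_univ_three, s12, s23, X13, X23]

theorem sq_key : ∀ q : ZMod 3, q ≠ 0 → q * q = 1 := by decide

/-- **the Bruhat decomposition** -/
theorem bruhat (g : G) : ∃ u n r : G, InU u ∧ (n = 1 ∨ n = s12 ∨ n = s23 * s12) ∧ InR r ∧
    (g = u * (n * r) ∨ ∃ j : ZMod 3, g = u * (n * (s23 * (u23 j * r)))) := by
  by_cases h20 : g.1 2 0 = 0
  · by_cases h10 : g.1 1 0 = 0
    · obtain ⟨i, r, hr, h | ⟨j, h⟩⟩ := point_form g h10 h20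
      · exact ⟨u23 i, 1, r, InU.u23 i, Or.inl rfl, hr, Or.inl (by rw [one_mul]; exact h)⟩
      · exact ⟨u23 i, 1, r, InU.u23 i, Or.inl rfl, hr, Or.inr ⟨j, by rw [one_mul]; exact h⟩⟩
    · have hq := sq_key _ h10
      obtain ⟨c1, c2⟩ := col_one (-(g.1 0 0 * g.1 1 0)) g.1
      have k1 : (s12 * (u12 (-(g.1 0 0 * g.1 1 0)) * g)).1 1 0 = 0 := by
        refine c1.trans ?_
        linear_combination (-(g.1 0 0)) * hq
      have k2 : (s12 * (u12 (-(g.1 0 0 * g.1 1 0)) * g)).1 2 0 = 0 := by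
        refine c2.trans ?_
        rw [h20, mul_zero]
      set v := -(g.1 0 0 * g.1 1 0)
      have hg : g = (u12 v)⁻¹ * (s12 * (s12 * (u12 v * g))) := by
        rw [← mul_assoc s12 s12, r_tt, one_mul]
        group
      obtain ⟨i, r, hr, h | ⟨j, h⟩⟩ := point_form _ k1 k2
      · refine ⟨(u12 v)⁻¹ * u13 (2 * i), s12, r, (InU.u12 v).inv.mul (InU.u13 _), Or.inr (Or.inl rfl), hr, Or.inl ?_⟩
        rw [h, ← mul_assoc s12, s12_u23] at hg
        rw [hg]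
        simp only [mul_assoc]
      · refine ⟨(u12 v)⁻¹ * u13 (2 * i), s12, r, (InU.u12 v).inv.mul (InU.u13 _), Or.inr (Or.inl rfl), hr,
          Or.inr ⟨j, ?_⟩⟩
        rw [h, ← mul_assoc s12, s12_u23] at hg
        rw [hg]
        simp only [mul_assoc]
  · have hq := sq_key _ h20
    obtain ⟨c1, c2⟩ := col_two (-(g.1 0 0 * g.1 2 0)) (-(g.1 1 0 * g.1 2 0)) g.1
    have k1 : (s12 * (s23 * (u13 (-(g.1 0 0 * g.1 2 0)) * (u23 (-(g.1 1 0 * g.1 2 0)) * g)))).1 1 0 = 0 := by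
      refine c1.trans ?_
      linear_combination (-2 * (g.1 0 0)) * hq
    have k2 : (s12 * (s23 * (u13 (-(g.1 0 0 * g.1 2 0)) * (u23 (-(g.1 1 0 * g.1 2 0)) * g)))).1 2 0 = 0 := by
      refine c2.trans ?_
      linear_combination (-2 * (g.1 1 0)) * hq
    set v := -(g.1 0 0 * g.1 2 0)
    set w := -(g.1 1 0 * g.1 2 0)
    have hg : g = (u13 v * u23 w)⁻¹ * (s23 * (s12 * (s12 * (s23 * (u13 v * (u23 w * g)))))) := by
      rw [← mul_assoc s12 s12, r_tt, one_mul, ← mul_assoc s23 s23, r_ss, one_mul]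
      group
    have hsu : ∀ i : ZMod 3, s23 * (s12 * u23 i) = u12 (2 * (2 * i)) * (s23 * s12) := by
      intro i
      rw [s12_u23, ← mul_assoc, s23_u13, mul_assoc]
    obtain ⟨i, r, hr, h | ⟨j, h⟩⟩ := point_form _ k1 k2
    · refine ⟨(u13 v * u23 w)⁻¹ * u12 (2 * (2 * i)), s23 * s12, r, ((InU.u13 v).mul (InU.u23 w)).inv.mul (InU.u12 _),
        Or.inr (Or.inr rfl), hr, Or.inl ?_⟩
      rw [h, ← mul_assoc s12, ← mul_assoc s23 (s12 * u23 i), hsu] at hg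
      rw [hg]
      simp only [mul_assoc]
    · refine ⟨(u13 v * u23 w)⁻¹ * u12 (2 * (2 * i)), s23 * s12, r, ((InU.u13 v).mul (InU.u23 w)).inv.mul (InU.u12 _),
        Or.inr (Or.inr rfl), hr, Or.inr ⟨j, ?_⟩⟩
      rw [h, ← mul_assoc s12, ← mul_assoc s23 (s12 * u23 i), hsu] at hg
      rw [hg]
      simp only [mul_assoc]

end Cfsg.Agent.H907.L33
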