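import Cfsg.Agent.H907.L33.Ops
import Cfsg.Agent.H907.L33.Bruhat
import Cfsg.Agent.H915.L33Sys

/-!
# Modules of dimension at most 12 of `SL₃(3)`: fixed vectors of a Sylow 3-subgroup (helper907)
-/

set_option autoImplicit false
set_option linter.unusedSectionVars false

namespace Cfsg.Agent.H907.L33

open Module Matrix Cfsg.Agent.H915.Idem Cfsg.Agent.H915.L33

variable {F : Type*} [Field F] {V : Type*} [AddCommGroup V] [Module F V] [FiniteDimensional F V]

/-! ### relations -/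

theorem q_as : x12 * s23 = s23 * (x13 * x13) := Subtype.ext (by decide)
theorem q_bs : x13 * s23 = s23 * (x12 * x12) := Subtype.ext (by decide)
theorem q_h1s : h1 * s23 = s23 * h1 := Subtype.ext (by decide)
theorem q_h2s : h2 * s23 = s23 * h3 := Subtype.ext (by decide)
theorem q_h3s : h3 * s23 = s23 * h2 := Subtype.ext (by decide)
theorem q_h1t : h1 * s12 = s12 * h2 := Subtype.ext (by decide)
theorem q_h2t : h2 * s12 = s12 * h1 := Subtype.ext (by decide)
theorem q_h3t : h3 * s12 = s12 * h3 := Subtype.ext (by decide)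
theorem q_scs : s23 * (x23 * s23) = x23 * (s23 * (h2 * x23)) := Subtype.ext (by decide)
theorem q_sccs : s23 * (x23 * (x23 * s23)) = x23 * (x23 * (s23 * (h3 * (x23 * x23)))) := Subtype.ext (by decide)
theorem q_tat : s12 * (x12 * s12) = x12 * (s12 * (h1 * x12)) := Subtype.ext (by decide)
theorem q_taat : s12 * (x12 * (x12 * s12)) = x12 * (x12 * (s12 * (h2 * (x12 * x12)))) := Subtype.ext (by decide)
theorem q_stc : s23 * (s12 * x23) = x12 * (s23 * s12) := Subtype.ext (by decide)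
theorem q_tc : s12 * x23 = x13 * (x13 * s12) := Subtype.ext (by decide)
theorem q_tsa : s12 * (s23 * x12) = x23 * (s12 * s23) := Subtype.ext (by decide)
theorem q_sts : s23 * (s12 * s23) = s12 * (s23 * s12) := Subtype.ext (by decide)
theorem q_NbN : s23 * (s12 * (s23 * (x13 * (s23 * (s12 * s23))))) =
    x13 * (s23 * (s12 * (s23 * (h3 * x13)))) := Subtype.ext (by decide)
theorem q_NbbN : s23 * (s12 * (s23 * (x13 * (x13 * (s23 * (s12 * s23)))))) =
    x13 * (x13 * (s23 * (s12 * (s23 * (h1 * (x13 * x13)))))) := Subtype.ext (by decide)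

/-! ### subgroups -/

/-- the stabiliser of a vector -/
def fixK (ρ : G →* End F V) (v : V) : Subgroup G where
  carrier := {g | ρ g v = v}
  one_mem' := by change ρ 1 v = v; rw [map_one]; rfl
  mul_mem' := by
    intro x y (hx : ρ x v = v) (hy : ρ y v = v)
    change ρ (x * y) v = v
    rw [mul_ap, hy, hx]
  inv_mem' := by
    intro x (hx : ρ x v = v)
    change ρ x⁻¹ v = v
    have h := inv_ap ρ x v
    rwa [hx] at h

theorem mem_fixK {ρ : G →* End F V} {v : V} {g : G} : g ∈ fixK ρ v ↔ ρ g v = v := Iff.rfl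

/-- elements commuting with an operator -/
def comK (ρ : G →* End F V) (e : End F V) : Subgroup G where
  carrier := {g | ρ g * e = e * ρ g}
  one_mem' := by change ρ 1 * e = e * ρ 1; rw [map_one, one_mul, mul_one]
  mul_mem' := by
    intro x y (hx : ρ x * e = e * ρ x) (hy : ρ y * e = e * ρ y)
    change ρ (x * y) * e = e * ρ (x * y)
    rw [map_mul, mul_assoc, hy, ← mul_assoc, hx, mul_assoc]
  inv_mem' := by
    intro x (hx : ρ x * e = e * ρ x)
    change ρ x⁻¹ * e = e * ρ x⁻¹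
    have h1 : ρ x⁻¹ * ρ x = 1 := by rw [← map_mul, inv_mul_cancel, map_one]
    have h2 : ρ x * ρ x⁻¹ = 1 := by rw [← map_mul, mul_inv_cancel, map_one]
    have h3 : ρ x⁻¹ * (ρ x * e) * ρ x⁻¹ = ρ x⁻¹ * (e * ρ x) * ρ x⁻¹ := by rw [hx]
    rw [← mul_assoc, h1, one_mul, mul_assoc (ρ x⁻¹), mul_assoc e, h2, mul_one] at h3
    exact h3.symm

theorem mem_comK {ρ : G →* End F V} {e : End F V} {g : G} : g ∈ comK ρ e ↔ ρ g * e = e * ρ g := Iff.rfl

/-- elements absorbed by an operator -/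
def absK (ρ : G →* End F V) (e : End F V) : Subgroup G where
  carrier := {g | e * ρ g = e}
  one_mem' := by change e * ρ 1 = e; rw [map_one, mul_one]
  mul_mem' := by
    intro x y (hx : e * ρ x = e) (hy : e * ρ y = e)
    change e * ρ (x * y) = e
    rw [map_mul, ← mul_assoc, hx, hy]
  inv_mem' := by
    intro x (hx : e * ρ x = e)
    change e * ρ x⁻¹ = e
    have h2 : ρ x * ρ x⁻¹ = 1 := by rw [← map_mul, mul_inv_cancel, map_one]
    have h3 : e * ρ x * ρ x⁻¹ = e := by rw [mul_assoc, h2, mul_one]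
    rwa [hx] at h3

theorem mem_absK {ρ : G →* End F V} {e : End F V} {g : G} : g ∈ absK ρ e ↔ e * ρ g = e := Iff.rfl

/-! ### representations -/

/-- the set-up -/
structure Rp (ρ : G →* End F V) (C : End F V) : Prop where
  n3 : (3 : F) ≠ 0
  irr : ∀ W : Submodule F V, (∀ g : G, ∀ v ∈ W, ρ g v ∈ W) → W = ⊥ ∨ W = ⊤
  ne : ρ x12 ≠ 1
  O : Op F (ρ x12) (ρ x13) (ρ x23) (ρ h1) (ρ h2) (ρ h3) (ρ s23) (ρ s12) C

/-- fixed vectors of the Borel subgroup -/
structure Yv (ρ : G →* End F V) (C : End F V) (v : V) : Prop where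
  Cv : C v = v
  h1v : ρ h1 v = v
  h2v : ρ h2 v = v
  h3v : ρ h3 v = v

namespace Rp

variable {ρ : G →* End F V} {C : End F V} (T : Rp ρ C)

include T

theorem ev {v : V} (hv : C v = v) : (av F (ρ x12) * av F (ρ x13)) v = v := by
  rw [← hv]
  exact LinearMap.congr_fun T.O.eC v

theorem e'v {v : V} (hv : C v = v) : (av F (ρ x23) * av F (ρ x13)) v = v := by
  rw [← hv]
  exact LinearMap.congr_fun T.O.e'C v

theorem x12v {v : V} (hv : C v = v) : ρ x12 v = v := by
  rw [← hv]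
  exact LinearMap.congr_fun T.O.aC v

theorem x13v {v : V} (hv : C v = v) : ρ x13 v = v := by
  rw [← hv]
  exact LinearMap.congr_fun T.O.bC v

theorem x23v {v : V} (hv : C v = v) : ρ x23 v = v := by
  rw [← hv]
  exact LinearMap.congr_fun T.O.cC v

theorem Cu {u : G} (hu : InU u) : C * ρ u = C := hu (absK ρ C) T.O.Ca T.O.Cb T.O.Cc

theorem CU {u : G} (hu : InU u) (v : V) : C (ρ u v) = C v := LinearMap.congr_fun (T.Cu hu) v

theorem uv {u : G} (hu : InU u) {v : V} (hv : C v = v) : ρ u v = v :=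
  hu (fixK ρ v) (T.x12v hv) (T.x13v hv) (T.x23v hv)

theorem rv {r : G} (hr : InR r) {v : V} (hv : Yv ρ C v) : ρ r v = v :=
  hr (fixK ρ v) (T.x12v hv.Cv) (T.x13v hv.Cv) hv.h1v hv.h2v hv.h3v

theorem rsv {r : G} (hr : InR r) {v : V} (hv : Yv ρ C v) : ρ r (ρ s23 v) = ρ s23 v := by
  have ha := T.x12v hv.Cv
  have hb := T.x13v hv.Cv
  refine hr (fixK ρ (ρ s23 v)) ?_ ?_ ?_ ?_ ?_
  · rw [mem_fixK, ← mul_ap, q_as, mul_ap, mul_ap, hb, hb]
  · rw [mem_fixK, ← mul_ap, q_bs, mul_ap, mul_ap, ha, ha]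
  · rw [mem_fixK, ← mul_ap, q_h1s, mul_ap, hv.h1v]
  · rw [mem_fixK, ← mul_ap, q_h2s, mul_ap, hv.h3v]
  · rw [mem_fixK, ← mul_ap, q_h3s, mul_ap, hv.h2v]

/-- a non-zero operator separates -/
theorem sep {A : End F V} (hA : A ≠ 0) {x : V} (h : ∀ g, A (ρ g x) = 0) : x = 0 := by
  let W : Submodule F V :=
    { carrier := {x | ∀ g, A (ρ g x) = 0}
      zero_mem' := fun g => by rw [map_zero, map_zero]
      add_mem' := fun {a b} ha hb g => by rw [map_add, map_add, ha g, hb g, add_zero]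
      smul_mem' := fun c a ha g => by rw [map_smul, map_smul, ha g, smul_zero] }
  rcases T.irr W (fun g v hv k => by rw [← mul_ap]; exact hv _) with h1 | h1
  · have h2 : x ∈ W := h
    rw [h1] at h2
    exact (Submodule.mem_bot F).1 h2
  · exfalso
    apply hA
    ext y
    have h2 : y ∈ W := by rw [h1]; trivial
    have h3 := h2 1
    rw [map_one] at h3
    exact h3

/-- orbits span -/
theorem span {w : V} (hw : w ≠ 0) : Submodule.span F (Set.range fun g => ρ g w) = ⊤ := by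
  rcases T.irr (Submodule.span F (Set.range fun g => ρ g w)) (by
    intro g v hv
    induction hv using Submodule.span_induction with
    | mem v hv =>
      obtain ⟨k, rfl⟩ := hv
      exact Submodule.subset_span ⟨g * k, mul_ap ρ g k w⟩
    | zero => rw [map_zero]; exact Submodule.zero_mem _
    | add a b _ _ ha hb => rw [map_add]; exact Submodule.add_mem _ ha hb
    | smul c a _ ha => rw [map_smul]; exact Submodule.smul_mem _ _ ha) with h | h
  · exfalso
    apply hw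
    have h1 : ρ 1 w ∈ (⊥ : Submodule F V) := by rw [← h]; exact Submodule.subset_span ⟨1, rfl⟩
    rw [map_one] at h1
    exact (Submodule.mem_bot F).1 h1
  · exact h

/-! ### operator identities -/

theorem I1 : C * ρ s12 * ρ s23 * C = C * ρ s12 * C * ρ s23 * C := by
  have h1 : C * ρ s12 = C * ρ s12 * (av F (ρ x23) * av F (ρ x13)) := by
    rw [mul_assoc, T.O.te', ← mul_assoc, T.O.Ce']
  have h2 : ρ s23 * C = (av F (ρ x12) * av F (ρ x13)) * (ρ s23 * C) := by
    rw [← mul_assoc, ← T.O.se, mul_assoc, T.O.eC]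
  have h3 : C * ρ s12 * (ρ s23 * C) = C * ρ s12 * C * (ρ s23 * C) := by
    conv_lhs => rw [h1, h2]
    rw [mul_assoc (C * ρ s12), ← mul_assoc _ _ (ρ s23 * C), T.O.e'e, ← mul_assoc (C * ρ s12)]
  rw [← mul_assoc, ← mul_assoc] at h3
  exact h3

theorem I2 : C * ρ s23 * ρ s12 * C = C * ρ s23 * C * ρ s12 * C := by
  have h1 : C * ρ s23 = C * ρ s23 * (av F (ρ x12) * av F (ρ x13)) := by
    rw [mul_assoc, T.O.se, ← mul_assoc, T.O.Ce]
  have h2 : ρ s12 * C = (av F (ρ x23) * av F (ρ x13)) * (ρ s12 * C) := by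
    rw [← mul_assoc, ← T.O.te', mul_assoc, T.O.e'C]
  have h3 : C * ρ s23 * (ρ s12 * C) = C * ρ s23 * C * (ρ s12 * C) := by
    conv_lhs => rw [h1, h2]
    rw [mul_assoc (C * ρ s23), ← mul_assoc _ _ (ρ s12 * C), T.O.ee', ← mul_assoc (C * ρ s23)]
  rw [← mul_assoc, ← mul_assoc] at h3
  exact h3

theorem Cstc : C * ρ s23 * ρ s12 * ρ x23 = C * ρ s23 * ρ s12 := by
  have h := congrArg ρ q_stc
  rw [map_mul, map_mul, map_mul, map_mul] at h
  have h2 : C * (ρ s23 * (ρ s12 * ρ x23)) = C * (ρ x12 * (ρ s23 * ρ s12)) := by rw [h]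
  rw [← mul_assoc C (ρ x12), T.O.Ca] at h2
  simpa only [mul_assoc] using h2

theorem Ctsa : C * ρ s12 * ρ s23 * ρ x12 = C * ρ s12 * ρ s23 := by
  have h := congrArg ρ q_tsa
  rw [map_mul, map_mul, map_mul, map_mul] at h
  have h2 : C * (ρ s12 * (ρ s23 * ρ x12)) = C * (ρ x23 * (ρ s12 * ρ s23)) := by rw [h]
  rw [← mul_assoc C (ρ x23), T.O.Cc] at h2
  simpa only [mul_assoc] using h2

theorem Ctc : C * ρ s12 * ρ x23 = C * ρ s12 := by
  have h := congrArg ρ q_tc
  rw [map_mul, map_mul, map_mul] at h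
  have h2 : C * (ρ s12 * ρ x23) = C * (ρ x13 * (ρ x13 * ρ s12)) := by rw [h]
  rw [← mul_assoc C (ρ x13), T.O.Cb, ← mul_assoc C (ρ x13), T.O.Cb] at h2
  simpa only [mul_assoc] using h2

theorem I3 : C * ρ s23 * ρ s12 * ρ s23 * C = C * ρ s23 * ρ s12 * C * ρ s23 * C := by
  have h1 : C * ρ s23 * ρ s12 = C * ρ s23 * ρ s12 * av F (ρ x23) := (av_fix_right T.n3 T.Cstc).symm
  have h2 : ρ s23 * C = (av F (ρ x12) * av F (ρ x13)) * (ρ s23 * C) := by
    rw [← mul_assoc, ← T.O.se, mul_assoc, T.O.eC]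
  have h3 : C * ρ s23 * ρ s12 * (ρ s23 * C) = C * ρ s23 * ρ s12 * C * (ρ s23 * C) := by
    conv_lhs => rw [h1, h2]
    rw [mul_assoc (C * ρ s23 * ρ s12), ← mul_assoc (av F (ρ x23)) _ (ρ s23 * C), T.O.ce,
      ← mul_assoc (C * ρ s23 * ρ s12)]
  rw [← mul_assoc, ← mul_assoc] at h3
  exact h3

theorem I4 : C * ρ s12 * ρ s23 * ρ s12 * C = C * ρ s12 * ρ s23 * C * ρ s12 * C := by
  have h1 : C * ρ s12 * ρ s23 = C * ρ s12 * ρ s23 * av F (ρ x12) := (av_fix_right T.n3 T.Ctsa).symm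
  have h2 : ρ s12 * C = (av F (ρ x23) * av F (ρ x13)) * (ρ s12 * C) := by
    rw [← mul_assoc, ← T.O.te', mul_assoc, T.O.e'C]
  have h3 : C * ρ s12 * ρ s23 * (ρ s12 * C) = C * ρ s12 * ρ s23 * C * (ρ s12 * C) := by
    conv_lhs => rw [h1, h2]
    rw [mul_assoc (C * ρ s12 * ρ s23), ← mul_assoc (av F (ρ x12)) _ (ρ s12 * C), T.O.ae',
      ← mul_assoc (C * ρ s12 * ρ s23)]
  rw [← mul_assoc, ← mul_assoc] at h3
  exact h3

end Rp

end Cfsg.Agent.H907.L33
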