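import Cfsg.Agent.H907.L33.Hecke

/-!
# Modules of dimension at most 12 of `SL₃(3)`: fixed vectors of a Sylow 3-subgroup, II (helper907)
-/

set_option autoImplicit false
set_option linter.unusedSectionVars false

namespace Cfsg.Agent.H907.L33

open Module Matrix Cfsg.Agent.H915.Idem Cfsg.Agent.H915.L33

variable {F : Type*} [Field F] {V : Type*} [AddCommGroup V] [Module F V] [FiniteDimensional F V]

theorem ap_rel (ρ : G →* End F V) {x y : G} (h : x = y) (v : V) : ρ x v = ρ y v := by rw [h]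

namespace Rp

variable {ρ : G →* End F V} {C : End F V} (T : Rp ρ C)

include T

theorem CC (x : V) : C (C x) = C x := LinearMap.congr_fun T.O.CC x
theorem Ca (x : V) : C (ρ x12 x) = C x := LinearMap.congr_fun T.O.Ca x
theorem Cb (x : V) : C (ρ x13 x) = C x := LinearMap.congr_fun T.O.Cb x
theorem Cc (x : V) : C (ρ x23 x) = C x := LinearMap.congr_fun T.O.Cc x
theorem h1C (x : V) : ρ h1 (C x) = C (ρ h1 x) := LinearMap.congr_fun T.O.h1C x
theorem h2C (x : V) : ρ h2 (C x) = C (ρ h2 x) := LinearMap.congr_fun T.O.h2C x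
theorem h3C (x : V) : ρ h3 (C x) = C (ρ h3 x) := LinearMap.congr_fun T.O.h3C x

theorem i1 {v : V} (hv : C v = v) : C (ρ s12 (ρ s23 v)) = C (ρ s12 (C (ρ s23 v))) := by
  have h := LinearMap.congr_fun T.I1 v
  simpa only [Module.End.mul_apply, hv] using h

theorem i2 {v : V} (hv : C v = v) : C (ρ s23 (ρ s12 v)) = C (ρ s23 (C (ρ s12 v))) := by
  have h := LinearMap.congr_fun T.I2 v
  simpa only [Module.End.mul_apply, hv] using h

theorem i3 {v : V} (hv : C v = v) : C (ρ s23 (ρ s12 (ρ s23 v))) = C (ρ s23 (ρ s12 (C (ρ s23 v)))) := by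
  have h := LinearMap.congr_fun T.I3 v
  simpa only [Module.End.mul_apply, hv] using h

theorem i4 {v : V} (hv : C v = v) : C (ρ s12 (ρ s23 (ρ s12 v))) = C (ρ s12 (ρ s23 (C (ρ s12 v)))) := by
  have h := LinearMap.congr_fun T.I4 v
  simpa only [Module.End.mul_apply, hv] using h

theorem Ys {v : V} (hv : Yv ρ C v) : Yv ρ C (C (ρ s23 v)) where
  Cv := T.CC _
  h1v := by rw [T.h1C, ← mul_ap, q_h1s, mul_ap, hv.h1v]
  h2v := by rw [T.h2C, ← mul_ap, q_h2s, mul_ap, hv.h3v]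
  h3v := by rw [T.h3C, ← mul_ap, q_h3s, mul_ap, hv.h2v]

theorem Yt {v : V} (hv : Yv ρ C v) : Yv ρ C (C (ρ s12 v)) where
  Cv := T.CC _
  h1v := by rw [T.h1C, ← mul_ap, q_h1t, mul_ap, hv.h2v]
  h2v := by rw [T.h2C, ← mul_ap, q_h2t, mul_ap, hv.h1v]
  h3v := by rw [T.h3C, ← mul_ap, q_h3t, mul_ap, hv.h3v]

theorem e_s {v : V} (hv : C v = v) : (av F (ρ x12) * av F (ρ x13)) (ρ s23 v) = ρ s23 v := by
  have h := LinearMap.congr_fun T.O.se v
  rw [Module.End.mul_apply, T.ev hv] at h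
  exact h.symm

theorem e'_t {v : V} (hv : C v = v) : (av F (ρ x23) * av F (ρ x13)) (ρ s12 v) = ρ s12 v := by
  have h := LinearMap.congr_fun T.O.te' v
  rw [Module.End.mul_apply, T.e'v hv] at h
  exact h.symm

theorem avc_s {v : V} (hv : C v = v) : av F (ρ x23) (ρ s23 v) = C (ρ s23 v) := by
  have h := LinearMap.congr_fun T.O.ce (ρ s23 v)
  rw [Module.End.mul_apply, T.e_s hv] at h
  exact h

theorem ava_t {v : V} (hv : C v = v) : av F (ρ x12) (ρ s12 v) = C (ρ s12 v) := by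
  have h := LinearMap.congr_fun T.O.ae' (ρ s12 v)
  rw [Module.End.mul_apply, T.e'_t hv] at h
  exact h

theorem three_ap (g : G) (x : V) : (3 : F) • av F (ρ g) x = x + ρ g x + ρ g (ρ g x) :=
  LinearMap.congr_fun (three_av T.n3 (ρ g)) x

theorem ss (x : V) : ρ s23 (ρ s23 x) = x := by rw [← mul_ap, r_ss, map_one]; rfl
theorem tt (x : V) : ρ s12 (ρ s12 x) = x := by rw [← mul_ap, r_tt, map_one]; rfl

theorem scs {v : V} (hv : Yv ρ C v) : ρ s23 (ρ x23 (ρ s23 v)) = ρ x23 (ρ s23 v) := by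
  have h := ap_rel ρ q_scs v
  rw [mul_ap, mul_ap, mul_ap, mul_ap, mul_ap, T.x23v hv.Cv, hv.h2v] at h
  exact h

theorem sccs {v : V} (hv : Yv ρ C v) : ρ s23 (ρ x23 (ρ x23 (ρ s23 v))) = ρ x23 (ρ x23 (ρ s23 v)) := by
  have h := ap_rel ρ q_sccs v
  rw [mul_ap, mul_ap, mul_ap, mul_ap, mul_ap, mul_ap, mul_ap, mul_ap, T.x23v hv.Cv, T.x23v hv.Cv, hv.h3v] at h
  exact h

theorem tat {v : V} (hv : Yv ρ C v) : ρ s12 (ρ x12 (ρ s12 v)) = ρ x12 (ρ s12 v) := by
  have h := ap_rel ρ q_tat v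
  rw [mul_ap, mul_ap, mul_ap, mul_ap, mul_ap, T.x12v hv.Cv, hv.h1v] at h
  exact h

theorem taat {v : V} (hv : Yv ρ C v) : ρ s12 (ρ x12 (ρ x12 (ρ s12 v))) = ρ x12 (ρ x12 (ρ s12 v)) := by
  have h := ap_rel ρ q_taat v
  rw [mul_ap, mul_ap, mul_ap, mul_ap, mul_ap, mul_ap, mul_ap, mul_ap, T.x12v hv.Cv, T.x12v hv.Cv, hv.h2v] at h
  exact h

/-- the quadratic relation for `s` -/
theorem quad_s {v : V} (hv : Yv ρ C v) : (3 : F) • C (ρ s23 (C (ρ s23 v))) = v + (2 : F) • C (ρ s23 v) := by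
  have h1 := T.three_ap x23 (ρ s23 v)
  rw [T.avc_s hv.Cv] at h1
  have h2 : (3 : F) • C (ρ s23 (C (ρ s23 v))) = C (ρ s23 ((3 : F) • C (ρ s23 v))) := by rw [map_smul, map_smul]
  rw [h2, h1, map_add, map_add, map_add, map_add, T.ss, T.scs hv, T.sccs hv, T.Cc, T.Cc, T.Cc, hv.Cv]
  module

/-- the quadratic relation for `t` -/
theorem quad_t {v : V} (hv : Yv ρ C v) : (3 : F) • C (ρ s12 (C (ρ s12 v))) = v + (2 : F) • C (ρ s12 v) := by
  have h1 := T.three_ap x12 (ρ s12 v)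
  rw [T.ava_t hv.Cv] at h1
  have h2 : (3 : F) • C (ρ s12 (C (ρ s12 v))) = C (ρ s12 ((3 : F) • C (ρ s12 v))) := by rw [map_smul, map_smul]
  rw [h2, h1, map_add, map_add, map_add, map_add, T.tt, T.tat hv, T.taat hv, T.Ca, T.Ca, T.Ca, hv.Cv]
  module

theorem u23_cases (j : ZMod 3) : u23 j = 1 ∨ u23 j = x23 ∨ u23 j = x23 * x23 := by
  have key : ∀ t : ZMod 3, (u23 t).1 = 1 ∨ (u23 t).1 = x23.1 ∨ (u23 t).1 = (x23 * x23).1 := by decide
  rcases key j with h | h | h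
  · exact Or.inl (Subtype.ext h)
  · exact Or.inr (Or.inl (Subtype.ext h))
  · exact Or.inr (Or.inr (Subtype.ext h))

/-- `C n c = C n` for `n = 1, t, s t` -/
theorem Cnc {n : G} (hn : n = 1 ∨ n = s12 ∨ n = s23 * s12) (x : V) : C (ρ n (ρ x23 x)) = C (ρ n x) := by
  rcases hn with rfl | rfl | rfl
  · rw [map_one]; exact T.Cc x
  · exact LinearMap.congr_fun T.Ctc x
  · rw [mul_ap, mul_ap]
    exact LinearMap.congr_fun T.Cstc x

/-- **a fixed vector of the Borel subgroup with `C s v = v` is fixed by `s`** -/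
theorem claim_s (hC : C ≠ 0) {v : V} (hv : Yv ρ C v) (h : C (ρ s23 v) = v) : ρ s23 v = v := by
  have L : ∀ n : G, (n = 1 ∨ n = s12 ∨ n = s23 * s12) → C (ρ n (ρ s23 v)) = C (ρ n v) := by
    rintro n (rfl | rfl | rfl)
    · rw [map_one]
      change C (ρ s23 v) = C v
      rw [h, hv.Cv]
    · rw [T.i1 hv.Cv, h]
    · rw [mul_ap, mul_ap, T.i3 hv.Cv, h]
  rw [← sub_eq_zero]
  apply T.sep hC
  intro g
  obtain ⟨u, n, r, hu, hn, hr, rfl | ⟨j, rfl⟩⟩ := bruhat g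
  · rw [mul_ap, mul_ap, T.CU hu, map_sub, map_sub, map_sub, T.rsv hr hv, T.rv hr hv, L n hn, sub_self]
  · rw [mul_ap, mul_ap, mul_ap, mul_ap, T.CU hu, map_sub (ρ r), T.rsv hr hv, T.rv hr hv]
    have hc := T.x23v hv.Cv
    rcases T.u23_cases j with h1 | h1 | h1
    · rw [h1, map_one]
      change C (ρ n (ρ s23 (ρ s23 v - v))) = 0
      rw [map_sub, T.ss, map_sub, map_sub, L n hn, sub_self]
    · rw [h1, map_sub, hc, map_sub, T.scs hv, map_sub, map_sub, T.Cnc hn, sub_self]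
    · rw [h1, mul_ap, map_sub, map_sub, hc, hc, map_sub, T.sccs hv, map_sub, map_sub, T.Cnc hn, T.Cnc hn, sub_self]

end Rp

end Cfsg.Agent.H907.L33
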