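import Cfsg.Agent.H915.L33Fix2

/-!
# Modules of dimension at most 12 of `SL₃(3)`: the projection onto the fixed vectors of a Sylow 3-subgroup (helper907)

Versions of helper915's results without the hypotheses `2 ≠ 0` and `dim = 12`.
-/

set_option autoImplicit false
set_option linter.unusedSectionVars false

namespace Cfsg.Agent.H907.L33

open Module Cfsg.Agent.H915.Idem

variable {F : Type*} [Field F] {V : Type*} [AddCommGroup V] [Module F V] [FiniteDimensional F V]

section half

variable {a b c h k s : End F V} (H : Half a b c h k s)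

include H

theorem h_Q : h * (av F b - av F a * av F b) = (av F b - av F a * av F b) * h := by
  rw [mul_sub, sub_mul, H.h_b, H.h_e]

theorem even' (h3 : (3 : F) ≠ 0) : Even (rk (av F b - av F a * av F b)) := by
  by_cases h2 : (2 : F) = 0
  · have hQ := h_Q H
    have hsQ := H.sum_Q h3
    have hid := H.Qidem h3
    set Q := av F b - av F a * av F b
    have t1 : LinearMap.trace F V (a * Q) = LinearMap.trace F V (a * a * Q) := by
      refine trace_conj' (u := h) (u' := h) H.hh H.hh ?_
      rw [← mul_assoc, H.ha, mul_assoc (a * a) h Q, hQ, ← mul_assoc]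
    have t2 : LinearMap.trace F V Q + LinearMap.trace F V (a * Q) + LinearMap.trace F V (a * a * Q) = 0 := by
      rw [← map_add, ← map_add]
      have e1 : Q + a * Q + a * a * Q = (1 + a + a * a) * Q := by rw [add_mul, add_mul, one_mul]
      rw [e1, hsQ, map_zero]
    rw [← t1, trace_idem hid] at t2
    have t3 : ((rk Q : ℕ) : F) = 0 := by linear_combination t2 - LinearMap.trace F V (a * Q) * h2
    have hc : CharP F 2 := CharTwo.of_one_ne_zero_of_two_eq_zero one_ne_zero h2
    exact (even_iff_two_dvd).2 ((CharP.cast_eq_zero_iff F 2 _).1 t3)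
  · exact H.even h2 h3

theorem ranks' (h3 : (3 : F) ≠ 0) (hd : finrank F V ≤ 15) (hne : a ≠ 1) :
    rk (av F a * av F b) + 8 = finrank F V ∧ rk (av F b - av F a * av F b) = 2 := by
  have k1 := H.ab.rk h3
  obtain ⟨e1, e2, e3⟩ := H.rk_eq
  rw [e1, e2, e3] at k1
  obtain ⟨m, hm⟩ := even' H h3
  rw [hm] at k1
  have hm1 : m ≤ 1 := by omega
  interval_cases m
  · exfalso
    have z := eq_zero_of_rk (e := av F b - av F a * av F b) (by rw [hm])
    have za := eq_zero_of_rk (e := av F a - av F a * av F b) (by rw [e1, hm])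
    have zm := eq_zero_of_rk (e := av F (a * b) - av F a * av F b) (by rw [e2, hm])
    have zn := eq_zero_of_rk (e := av F (a * (b * b)) - av F a * av F b) (by rw [e3, hm])
    have hs := H.ab.sum h3
    rw [z, za, zm, zn, add_zero, add_zero, add_zero, add_zero] at hs
    apply hne
    have e4 : a * (av F a * av F b) = av F a * av F b := by rw [← mul_assoc, mul_av H.ab.ha]
    rw [← hs, mul_one] at e4
    exact e4
  · exact ⟨by omega, by omega⟩

/-- `c` acts trivially on the range of `Q` -/
theorem c_Q' (h3 : (3 : F) ≠ 0) (hr : rk (av F b - av F a * av F b) = 2) :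
    c * (av F b - av F a * av F b) = av F b - av F a * av F b := by
  have hQi := H.Qidem h3
  have haQ := H.a_Q
  have hbQ := H.b_Q
  have hsQ := H.sum_Q h3
  have hcQ : c * (av F b - av F a * av F b) = (av F b - av F a * av F b) * c := by
    rw [mul_sub, sub_mul, av_comm H.cb, H.c_e]
  have hkQ : k * (av F b - av F a * av F b) = (av F b - av F a * av F b) * k := by
    rw [mul_sub, sub_mul, H.k_b, H.k_e]
  have hhQ := h_Q H
  set Q := av F b - av F a * av F b with hQdef
  have hQ0 : Q ≠ 0 := by
    intro h0
    rw [h0, rk_zero] at hr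
    exact absurd hr (by norm_num)
  have hns : ¬ ∃ x : F, a * Q = x • Q := by
    rintro ⟨x, hx⟩
    have e1 : h * a * Q = a * a * h * Q := by rw [H.ha]
    have e2 : h * a * Q = x • (h * Q) := by rw [mul_assoc, hx, mul_smul_comm]
    have e3 : a * a * h * Q = (x * x) • (h * Q) := by
      rw [mul_assoc (a * a), hhQ, ← mul_assoc, mul_assoc a a Q, hx, mul_smul_comm, hx, smul_smul, smul_mul_assoc, ← hhQ]
    rw [e2, e3] at e1
    have e4 : x • Q = (x * x) • Q := by
      have e5 := congrArg (fun y => h * y) e1
      simp only [mul_smul_comm, ← mul_assoc, H.hh, one_mul] at e5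
      exact e5
    have e5 : (x - x * x) • Q = 0 := by rw [sub_smul, e4, sub_self]
    have e6 : x - x * x = 0 := (smul_eq_zero.1 e5).resolve_right hQ0
    have e7 : (1 + x + x * x) • Q = 0 := by
      have e8 : (1 + a + a * a) * Q = (1 + x + x * x) • Q := by
        rw [add_mul, add_mul, one_mul, hx, mul_assoc, hx, mul_smul_comm, hx, smul_smul, add_smul, add_smul, one_smul]
      rw [← e8, hsQ]
    have e8 : 1 + x + x * x = 0 := (smul_eq_zero.1 e7).resolve_right hQ0
    have e9 : x * (1 - x) = 0 := by linear_combination e6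
    rcases mul_eq_zero.1 e9 with h0 | h0
    · rw [h0] at e8
      norm_num at e8
    · have : x = 1 := by linear_combination -h0
      rw [this] at e8
      apply h3
      linear_combination e8
  have e1 : c * k * Q = k * c * Q := by
    refine comm_of_rk_two hQi hr haQ hcQ hkQ ?_ ?_ hns
    · rw [H.ac, mul_assoc (c * a) b Q, hbQ]
    · rw [← H.ka]
  have e2 : k * c * Q = c * c * k * Q := by rw [H.kc]
  rw [e2] at e1
  have e3 : k * Q = c * k * Q := by
    have e4 := congrArg (fun y => c * c * y) e1
    simp only [← mul_assoc] at e4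
    rw [H.hc, one_mul, one_mul] at e4
    exact e4
  have e4 : Q * k = c * Q * k := by rw [← hkQ, e3, mul_assoc c k Q, hkQ, ← mul_assoc]
  have e5 := congrArg (fun y => y * k) e4
  simp only [mul_assoc, H.kk, mul_one] at e5
  exact e5.symm

end half

/-- the projection onto the fixed vectors of the Sylow 3-subgroup and its properties -/
structure Op (F : Type*) [Field F] {V : Type*} [AddCommGroup V] [Module F V] (a b c h1 h2 h3 s t C : End F V) :
    Prop where
  CC : C * C = C
  aC : a * C = C
  bC : b * C = C
  cC : c * C = C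
  Ca : C * a = C
  Cb : C * b = C
  Cc : C * c = C
  h1C : h1 * C = C * h1
  h2C : h2 * C = C * h2
  h3C : h3 * C = C * h3
  eC : av F a * av F b * C = C
  Ce : C * (av F a * av F b) = C
  e'C : av F c * av F b * C = C
  Ce' : C * (av F c * av F b) = C
  avb : av F b = av F a * av F b + av F c * av F b - C
  ce : av F c * (av F a * av F b) = C
  ae' : av F a * (av F c * av F b) = C
  ee' : (av F a * av F b) * (av F c * av F b) = C
  e'e : (av F c * av F b) * (av F a * av F b) = C
  se : s * (av F a * av F b) = (av F a * av F b) * s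
  te' : t * (av F c * av F b) = (av F c * av F b) * t
  tb : t * av F b = av F c * t
  sb : s * av F b = av F a * s
  ec : (av F a * av F b) * av F c = C
  e'a : (av F c * av F b) * av F a = C
  be : av F b * (av F a * av F b) = av F a * av F b
  be' : av F b * (av F c * av F b) = av F c * av F b
  idem : (av F a * av F b) * (av F a * av F b) = av F a * av F b

theorem exists_op {a b c h1 h2 h3 s t g g' : End F V} (K : Full a b c h1 h2 h3 s t g g') (n3 : (3 : F) ≠ 0)
    (hd : finrank F V ≤ 15) (hne : a ≠ 1) (hne' : c ≠ 1) :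
    ∃ C, Op F a b c h1 h2 h3 s t C ∧ rk (av F a * av F b) = rk C + 2 ∧ rk C + 10 = finrank F V ∧
      LinearMap.trace F V (h1 * C) = LinearMap.trace F V (h2 * C) ∧
      LinearMap.trace F V (h2 * C) = LinearMap.trace F V (h3 * C) := by
  obtain ⟨r1, r2⟩ := ranks' K.H n3 hd hne
  obtain ⟨r3, r4⟩ := ranks' K.H' n3 hd hne'
  have cQ := c_Q' K.H n3 r2
  have aQ' := c_Q' K.H' n3 r4
  obtain ⟨t1, t2, t3⟩ := K.traces n3
  have P := K.H.ab
  have P' := K.pcb
  have h1avc : h1 * av F c = av F c * h1 := av_comm K.h1c
  have h2avc : h2 * av F c = av F c * h2 := by rw [av_conj K.h2c, av_sq K.H.hc]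
  have h3avc : h3 * av F c = av F c * h3 := by rw [av_conj K.H.kc, av_sq K.H.hc]
  have h2e : h2 * (av F a * av F b) = (av F a * av F b) * h2 := by
    rw [← mul_assoc, av_conj K.h2a, av_sq K.H.ab.ha, mul_assoc, av_comm K.h2b, ← mul_assoc]
  have h1e : h1 * (av F a * av F b) = (av F a * av F b) * h1 := K.H.h_e
  have h3e : h3 * (av F a * av F b) = (av F a * av F b) * h3 := K.H.k_e
  have se := K.H.s_e
  have te : t * (av F c * av F b) = (av F c * av F b) * t := by
    have h := K.H'.s_e
    rw [K.avbb] at h
    exact h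
  have tb : t * av F b = av F c * t := by
    have h := K.H'.sb
    rw [K.avbb] at h
    exact h
  have c_e := K.H.c_e
  have a_e' : a * (av F c * av F b) = (av F c * av F b) * a := by
    have h := K.H'.c_e
    rw [K.avbb] at h
    exact h
  rw [K.avbb] at r3 r4 aQ'
  have hC := Full.e_eq (F := F) (a := a) (b := b) (c := c)
  have hC' := Full.e'_eq (F := F) (a := a) (b := b) (c := c)
  have bb := av_idem n3 P.hb
  have ee := P.e_idem n3
  have e'e' := P'.e_idem n3
  have eb := P.e_b n3
  have be := P.b_e n3
  have e'b := P'.e_b n3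
  have be' := P'.b_e n3
  have cb : c * av F b = av F b * c := av_comm P'.hab
  have ab : a * av F b = av F b * a := av_comm P.hab
  set C' := Full.C F a b c with hCdef
  have ae : a * (av F a * av F b) = av F a * av F b := by rw [← mul_assoc, mul_av P.ha]
  have bE : b * (av F a * av F b) = av F a * av F b := by rw [P.e_comm, ← mul_assoc, mul_av P.hb]
  have ce' : c * (av F c * av F b) = av F c * av F b := by rw [← mul_assoc, mul_av P'.ha]
  have bE' : b * (av F c * av F b) = av F c * av F b := by rw [P'.e_comm, ← mul_assoc, mul_av P.hb]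
  have ea : (av F a * av F b) * a = av F a * av F b := by
    rw [mul_assoc, ← ab, ← mul_assoc, av_mul P.ha]
  have eB : (av F a * av F b) * b = av F a * av F b := by rw [mul_assoc, av_mul P.hb]
  have e'c : (av F c * av F b) * c = av F c * av F b := by
    rw [mul_assoc, ← cb, ← mul_assoc, av_mul P'.ha]
  have e'B : (av F c * av F b) * b = av F c * av F b := by rw [mul_assoc, av_mul P.hb]
  have ace : av F a * (av F a * av F b) = av F a * av F b := P.a_e n3
  have cce : av F c * (av F c * av F b) = av F c * av F b := P'.a_e n3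
  -- Q c = Q, Q' a = Q'
  have Qc : (av F b - av F a * av F b) * c = av F b - av F a * av F b := by
    rw [sub_mul, ← cb, ← c_e, ← mul_sub, cQ]
  have Q'a : (av F b - av F c * av F b) * a = av F b - av F c * av F b := by
    rw [sub_mul, ← ab, ← a_e', ← mul_sub, aQ']
  set e := av F a * av F b with he
  set e' := av F c * av F b with he'
  have C1 : C' = e - (av F b - e') := by rw [hC]; abel
  have C2 : C' = e' - (av F b - e) := by rw [hC']; abel
  have aC : a * C' = C' := by
    rw [C1, mul_sub, ae, aQ']
  have cC : c * C' = C' := by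
    rw [C2, mul_sub, ce', cQ]
  have bC : b * C' = C' := by
    rw [C1, mul_sub, mul_sub, bE, bE', mul_av P.hb]
  have Ca : C' * a = C' := by
    rw [C1, sub_mul, ea, Q'a]
  have Cc : C' * c = C' := by
    rw [C2, sub_mul, e'c, Qc]
  have Cb : C' * b = C' := by
    rw [C1, sub_mul, sub_mul, eB, e'B, av_mul P.hb]
  have avaC : av F a * C' = C' := av_fix_left n3 aC
  have avbC : av F b * C' = C' := av_fix_left n3 bC
  have avcC : av F c * C' = C' := av_fix_left n3 cC
  have Cava : C' * av F a = C' := av_fix_right n3 Ca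
  have Cavb : C' * av F b = C' := av_fix_right n3 Cb
  have Cavc : C' * av F c = C' := av_fix_right n3 Cc
  have eC : e * C' = C' := by rw [he, mul_assoc, avbC, avaC]
  have Ce : C' * e = C' := by rw [he, ← mul_assoc, Cava, Cavb]
  have e'C : e' * C' = C' := by rw [he', mul_assoc, avbC, avcC]
  have Ce' : C' * e' = C' := by rw [he', ← mul_assoc, Cavc, Cavb]
  have CC : C' * C' = C' := by
    have h : (e - (av F b - e')) * C' = C' := by rw [sub_mul, sub_mul, eC, avbC, e'C, sub_self, sub_zero]
    rwa [← C1] at h
  have ace' : av F a * e' = C' := by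
    have h : av F a * (av F b - e) = 0 := by rw [mul_sub, ace, ← he, sub_self]
    rw [hC', mul_add, h, add_zero, avaC]
  have cae : av F c * e = C' := by
    have h : av F c * (av F b - e') = 0 := by rw [mul_sub, cce, ← he', sub_self]
    rw [hC, mul_add, h, add_zero, avcC]
  have ee'C : e * e' = C' := by rw [he, mul_assoc, be', ace']
  have e'eC : e' * e = C' := by rw [he', mul_assoc, be, cae]
  have hQ' : (av F b - e') * (av F b - e') = av F b - e' := Pair.compl_idem e'e' bb be' e'b
  have hCQ' : C' * (av F b - e') = 0 := by rw [mul_sub, Cavb, Ce', sub_self]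
  have hQ'C : (av F b - e') * C' = 0 := by rw [sub_mul, avbC, e'C, sub_self]
  have hrk : rk e = rk C' + 2 := by
    conv_lhs => rw [hC]
    rw [rk_add CC hQ' hCQ' hQ'C, r4]
  refine ⟨C', ⟨CC, aC, bC, cC, Ca, Cb, Cc, ?_, ?_, ?_, eC, Ce, e'C, Ce', ?_, cae, ace', ee'C, e'eC, se, te, tb,
    K.H.sb, ?_, ?_, be, be', ee⟩, hrk, by omega, t1, t2⟩
  · rw [← cae, ← mul_assoc, h1avc, mul_assoc, h1e, ← mul_assoc]
  · rw [← cae, ← mul_assoc, h2avc, mul_assoc, h2e, ← mul_assoc]
  · rw [← cae, ← mul_assoc, h3avc, mul_assoc, h3e, ← mul_assoc]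
  · rw [← he, ← he', hC]; abel
  · rw [← he, ← cae]
    exact av_comm c_e.symm
  · rw [← he', ← ace']
    exact av_comm a_e'.symm

end Cfsg.Agent.H907.L33
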