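import Cfsg.Agent.H907.L33.Hecke2

/-!
# Modules of dimension at most 12 of `SL₃(3)`: vectors fixed by the stabiliser of a point (helper907)
-/

set_option autoImplicit false
set_option linter.unusedSectionVars false

namespace Cfsg.Agent.H907.L33

open Module Matrix Cfsg.Agent.H915.Idem Cfsg.Agent.H915.L33

variable {F : Type*} [Field F] {V : Type*} [AddCommGroup V] [Module F V] [FiniteDimensional F V]

/-- the projection onto the fixed vectors of the unipotent radical of the stabiliser of a point -/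
abbrev Ee (ρ : G →* End F V) : End F V := av F (ρ x12) * av F (ρ x13)

/-- the stabiliser of a point commutes with `e` -/
theorem com_P (ρ : G →* End F V) (k : G) (h10 : k.1 1 0 = 0) (h20 : k.1 2 0 = 0) : ρ k * Ee ρ = Ee ρ * ρ k := by
  have K := full ρ
  have ha : ρ x12 * Ee ρ = Ee ρ * ρ x12 := by
    rw [← mul_assoc, mul_av K.H.ab.ha, mul_assoc, ← av_comm K.H.ab.hab, ← mul_assoc, av_mul K.H.ab.ha]
  have hb : ρ x13 * Ee ρ = Ee ρ * ρ x13 := by
    have e1 : Ee ρ * ρ x13 = Ee ρ := by rw [mul_assoc, av_mul K.H.ab.hb]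
    have e2 : ρ x13 * Ee ρ = Ee ρ := by
      change ρ x13 * (av F (ρ x12) * av F (ρ x13)) = av F (ρ x12) * av F (ρ x13)
      rw [K.H.ab.e_comm, ← mul_assoc, mul_av K.H.ab.hb]
    rw [e1, e2]
  have hh2 : ρ h2 * Ee ρ = Ee ρ * ρ h2 := by
    rw [← mul_assoc, av_conj K.h2a, av_sq K.H.ab.ha, mul_assoc, av_comm K.h2b, ← mul_assoc]
  exact point_mem (K := comK ρ (Ee ρ)) ha hb K.H.c_e K.H.h_e hh2 K.H.k_e K.H.s_e k h10 h20

/-- elements outside the stabiliser of a point -/
theorem out_form (g : G) (h : ¬ (g.1 1 0 = 0 ∧ g.1 2 0 = 0)) : ∃ k k' : G, k.1 1 0 = 0 ∧ k.1 2 0 = 0 ∧ k'.1 1 0 = 0 ∧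
    k'.1 2 0 = 0 ∧ g = k * (s12 * k') := by
  obtain ⟨k, hk1, hk2⟩ := two_trans (g.1 *ᵥ e1) (mulVec_ne g (by decide)) (fun h1 => h (first_col g (Or.inl h1)))
    (fun h1 => h (first_col g (Or.inr h1)))
  have hs : s12.1 *ᵥ e1 = e2 := by decide
  obtain ⟨d1, d2⟩ := first_col k (Or.inl hk1)
  have h1 : ((k * s12)⁻¹ * g).1 *ᵥ e1 = e1 := by
    have h2 : k.1 *ᵥ e2 = (k * s12).1 *ᵥ e1 := by rw [mulVec_mul', hs]
    rw [mulVec_mul', ← hk2, h2, inv_mulVec']
  obtain ⟨d3, d4⟩ := first_col _ (Or.inl h1)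
  exact ⟨k, _, d1, d2, d3, d4, by group⟩

section op

variable {ρ : G →* End F V} {C : End F V} (O : Op F (ρ x12) (ρ x13) (ρ x23) (ρ h1) (ρ h2) (ρ h3) (ρ s23) (ρ s12) C)

include O

theorem e_t_e : Ee ρ * ρ s12 * Ee ρ = C * ρ s12 * Ee ρ := by
  have h : Ee ρ * ρ s12 * Ee ρ = Ee ρ * ρ s12 * (av F (ρ x13) * Ee ρ) := by rw [O.be]
  rw [h, ← mul_assoc, mul_assoc (Ee ρ), O.tb, ← mul_assoc (Ee ρ), O.ec]

/-- `C ≠ 0` -/
theorem C_ne (n3 : (3 : F) ≠ 0) (hd : finrank F V ≤ 12) (hr : rk (Ee ρ) = rk C + 2) : C ≠ 0 := by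
  intro h0
  rw [h0, rk_zero] at hr
  have hE : Ee ρ ≠ 0 := by
    intro h
    rw [h, rk_zero] at hr
    omega
  obtain ⟨x, hx⟩ : ∃ x, Ee ρ x ≠ 0 := by
    by_contra h
    push Not at h
    exact hE (LinearMap.ext h)
  obtain ⟨w, hw⟩ : ∃ w, w = Ee ρ x := ⟨_, rfl⟩
  rw [← hw] at hx
  have ew : Ee ρ w = w := by rw [hw]; exact LinearMap.congr_fun O.idem x
  have key : ∀ g : G, ¬ (g.1 1 0 = 0 ∧ g.1 2 0 = 0) → Ee ρ (ρ g w) = 0 := by
    intro g hg
    obtain ⟨k, k', d1, d2, d3, d4, rfl⟩ := out_form g hg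
    rw [mul_ap, mul_ap]
    have e1 : Ee ρ (ρ k (ρ s12 (ρ k' w))) = ρ k (Ee ρ (ρ s12 (ρ k' w))) :=
      (LinearMap.congr_fun (com_P ρ k d1 d2) _).symm
    have e2 : Ee ρ (ρ k' w) = ρ k' w := by
      have := LinearMap.congr_fun (com_P ρ k' d3 d4) w
      rw [Module.End.mul_apply, ew] at this
      exact this.symm
    have e3 : Ee ρ (ρ s12 (ρ k' w)) = 0 := by
      have h : Ee ρ (ρ s12 (Ee ρ (ρ k' w))) = C (ρ s12 (Ee ρ (ρ k' w))) := LinearMap.congr_fun (e_t_e O) (ρ k' w)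
      rw [e2, h0] at h
      exact h
    rw [e1, e3, map_zero]
  choose m hm using fun i => exists_mk (pt i) (pt_ne i)
  have hli : LinearIndependent F (fun i => ρ (m i) w) := by
    rw [Fintype.linearIndependent_iff]
    intro c hc j
    have h1 : Ee ρ (ρ (m j)⁻¹ (∑ i, c i • ρ (m i) w)) = c j • w := by
      rw [map_sum, map_sum, Finset.sum_eq_single j]
      · rw [map_smul, inv_ap, map_smul, ew]
      · intro i _ hij
        rw [map_smul, map_smul, ← mul_ap, key, smul_zero]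
        intro hcol
        apply hij
        have h2 : ((m j)⁻¹ * m i).1 *ᵥ e1 = e1 ∨ ((m j)⁻¹ * m i).1 *ᵥ e1 = -e1 := by
          have h3 : ∀ M : G, M.1 1 0 = 0 ∧ M.1 2 0 = 0 → M.1 *ᵥ e1 = e1 ∨ M.1 *ᵥ e1 = -e1 := by
            intro M hM
            have h4 : M.1 *ᵥ e1 = ![M.1 0 0, 0, 0] := by
              funext i
              have h5 : (M.1 *ᵥ e1) i = M.1 i 0 := by
                simp [Matrix.mulVec, dotProduct, Fin.sum_univ_three, e1]
              rw [h5]
              fin_cases i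
              · rfl
              · exact hM.1
              · exact hM.2
            have h6 : M.1 0 0 ≠ 0 := by
              intro h0
              rw [h0] at h4
              have h7 : M.1 *ᵥ e1 = 0 := h4.trans (by decide)
              exact mulVec_ne M (by decide) h7
            have h8 : ∀ z : ZMod 3, z ≠ 0 → (![z, 0, 0] : X) = e1 ∨ (![z, 0, 0] : X) = -e1 := by decide
            rw [h4]
            exact h8 _ h6
          exact h3 _ hcol
        apply pt_inj
        rw [mulVec_mul', hm] at h2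
        rcases h2 with h2 | h2
        · left
          have h3 : (m j).1 *ᵥ (((m j)⁻¹).1 *ᵥ pt i) = (m j).1 *ᵥ e1 := congrArg (fun z => (m j).1 *ᵥ z) h2
          rw [hm, ← mulVec_mul', mul_inv_cancel] at h3
          rw [← h3]
          exact (Matrix.one_mulVec _).symm
        · right
          have h3 : (m j).1 *ᵥ (((m j)⁻¹).1 *ᵥ pt i) = (m j).1 *ᵥ (-e1) := congrArg (fun z => (m j).1 *ᵥ z) h2
          rw [Matrix.mulVec_neg, hm, ← mulVec_mul', mul_inv_cancel] at h3
          rw [← h3]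
          exact (Matrix.one_mulVec _).symm
      · intro h; exact absurd (Finset.mem_univ j) h
    rw [hc, map_zero, map_zero] at h1
    exact (smul_eq_zero.1 h1.symm).resolve_right hx
  have h1 := hli.fintype_card_le_finrank
  rw [Fintype.card_fin] at h1
  omega

end op

namespace Rp

variable {ρ : G →* End F V} {C : End F V} (T : Rp ρ C)

include T

/-- a vector fixed by the stabiliser of a point with `C t w = w` vanishes -/
theorem final_fix {w : V} (hw : ∀ g : G, g.1 1 0 = 0 → g.1 2 0 = 0 → ρ g w = w) (hCt : C (ρ s12 w) = w) : w = 0 := by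
  by_contra hw0
  have hE : Ee ρ w = w := by
    have h1 : ρ x12 w = w := hw _ (by decide) (by decide)
    have h2 : ρ x13 w = w := hw _ (by decide) (by decide)
    have h3 : ∀ g : G, ρ g w = w → av F (ρ g) w = w := by
      intro g hg
      have h4 := T.three_ap g w
      rw [hg, hg] at h4
      have h5 : w + w + w = (3 : F) • w := by module
      rw [h5] at h4
      exact smul_right_injective _ T.n3 h4
    rw [Module.End.mul_apply, h3 _ h2, h3 _ h1]
  have hte : Ee ρ (ρ s12 w) = w := by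
    have h : Ee ρ (ρ s12 (Ee ρ w)) = C (ρ s12 (Ee ρ w)) := LinearMap.congr_fun (e_t_e T.O) w
    rw [hE, hCt] at h
    exact h
  have key : ∀ g : G, Ee ρ (ρ g w) = w := by
    intro g
    by_cases hg : g.1 1 0 = 0 ∧ g.1 2 0 = 0
    · rw [hw g hg.1 hg.2, hE]
    obtain ⟨k, k', d1, d2, d3, d4, rfl⟩ := out_form g hg
    rw [mul_ap, mul_ap, hw k' d3 d4]
    have e1 : Ee ρ (ρ k (ρ s12 w)) = ρ k (Ee ρ (ρ s12 w)) := (LinearMap.congr_fun (com_P ρ k d1 d2) _).symm
    rw [e1, hte, hw k d1 d2]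
  have hE0 : Ee ρ ≠ 0 := by
    intro h
    rw [h] at hE
    exact hw0 hE.symm
  apply hw0
  apply fix_zero ρ T.irr T.ne
  intro h
  rw [← sub_eq_zero]
  apply T.sep hE0
  intro g
  rw [map_sub, map_sub, ← mul_ap, key, key, sub_self]

end Rp

end Cfsg.Agent.H907.L33
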