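import Cfsg.Agent.H907.L33.Point

/-!
# Modules of dimension 12 of `SL₃(3)` in characteristic 2 (helper907)

The stabiliser of a point fixes a non-zero vector, the 13 conjugates of it form a vector system.
-/

set_option autoImplicit false
set_option linter.unusedSectionVars false

namespace Cfsg.Agent.H907.L33

open Module Matrix Cfsg.Agent.H915.Idem Cfsg.Agent.H915.L33

variable {F : Type*} [Field F] {V : Type*} [AddCommGroup V] [Module F V] [FiniteDimensional F V]

theorem add_self_two (n2 : (2 : F) = 0) (x : V) : x + x = 0 := by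
  have : x + x = (2 : F) • x := by module
  rw [this, n2, zero_smul]

/-- fixed vectors of an involution in characteristic two -/
theorem exists_fix_inv (n2 : (2 : F) = 0) {S : Submodule F V} {f : V →ₗ[F] V} (hf : ∀ x ∈ S, f (f x) = x)
    (hS : ∀ x ∈ S, f x ∈ S) {x : V} (hx : x ∈ S) (h0 : x ≠ 0) : ∃ y ∈ S, y ≠ 0 ∧ f y = y := by
  by_cases h : f x = x
  · exact ⟨x, hx, h0, h⟩
  · refine ⟨x + f x, S.add_mem hx (hS x hx), fun h1 => h ?_, ?_⟩
    · have h2 := add_self_two n2 x
      rw [← h2] at h1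
      exact add_left_cancel h1
    · rw [map_add, hf x hx, add_comm]

namespace Rp

variable {ρ : G →* End F V} {C : End F V} (T : Rp ρ C)

include T

/-- the space of vectors fixed by the Borel subgroup -/
theorem exists_Y (hC : C ≠ 0) (n2 : (2 : F) = 0) : ∃ v, v ≠ 0 ∧ Yv ρ C v := by
  obtain ⟨x, hx⟩ : ∃ x, C x ≠ 0 := by
    by_contra h
    push Not at h
    exact hC (LinearMap.ext h)
  let S : Submodule F V :=
    { carrier := {y | C y = y}
      zero_mem' := map_zero _
      add_mem' := fun {a b} ha hb => by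
        change C (a + b) = a + b
        rw [map_add, show C a = a from ha, show C b = b from hb]
      smul_mem' := fun c a ha => by
        change C (c • a) = c • a
        rw [map_smul, show C a = a from ha] }
  obtain ⟨y, hy, y0, hy1⟩ := exists_fix_inv n2 (S := S) (f := ρ h1)
    (fun x _ => by rw [← mul_ap, r_h11, map_one]; rfl)
    (fun x (hx : C x = x) => by
      change C (ρ h1 x) = ρ h1 x
      rw [← T.h1C, hx]) (x := C x) (T.CC x) hx
  let S' : Submodule F V :=
    { carrier := {y | C y = y ∧ ρ h1 y = y}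
      zero_mem' := ⟨map_zero _, map_zero _⟩
      add_mem' := fun {a b} ha hb => by
        refine ⟨?_, ?_⟩
        · rw [map_add, ha.1, hb.1]
        · rw [map_add, ha.2, hb.2]
      smul_mem' := fun c a ha => by
        refine ⟨?_, ?_⟩
        · rw [map_smul, ha.1]
        · rw [map_smul, ha.2] }
  obtain ⟨z, ⟨hz1, hz2⟩, z0, hz3⟩ := exists_fix_inv n2 (S := S') (f := ρ h2)
    (fun x _ => by rw [← mul_ap, r_h22, map_one]; rfl)
    (fun x (hx : C x = x ∧ ρ h1 x = x) => by
      change C (ρ h2 x) = ρ h2 x ∧ ρ h1 (ρ h2 x) = ρ h2 x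
      refine ⟨by rw [← T.h2C, hx.1], ?_⟩
      rw [← mul_ap, r_h12, ← r_h21, mul_ap, hx.2]) (x := y) ⟨hy, hy1⟩ y0
  refine ⟨z, z0, ⟨hz1, hz2, hz3, ?_⟩⟩
  rw [← r_h12, mul_ap, hz3, hz2]

/-- **the stabiliser of a point fixes a vector** -/
theorem exists_fixed_two (hC : C ≠ 0) (n2 : (2 : F) = 0) :
    ∃ w : V, w ≠ 0 ∧ ∀ g : G, g.1 1 0 = 0 → g.1 2 0 = 0 → ρ g w = w := by
  obtain ⟨v, v0, hv⟩ := T.exists_Y hC n2
  let S : Submodule F V :=
    { carrier := {y | Yv ρ C y}
      zero_mem' := ⟨map_zero _, map_zero _, map_zero _, map_zero _⟩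
      add_mem' := fun {a b} ha hb => by
        refine ⟨?_, ?_, ?_, ?_⟩
        · rw [map_add, ha.1, hb.1]
        · rw [map_add, ha.2, hb.2]
        · rw [map_add, ha.3, hb.3]
        · rw [map_add, ha.4, hb.4]
      smul_mem' := fun c a ha => by
        refine ⟨?_, ?_, ?_, ?_⟩
        · rw [map_smul, ha.1]
        · rw [map_smul, ha.2]
        · rw [map_smul, ha.3]
        · rw [map_smul, ha.4] }
  obtain ⟨w, hw, w0, hw1⟩ := exists_fix_inv n2 (S := S) (f := C * ρ s23)
    (fun x (hx : Yv ρ C x) => by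
      have h := T.quad_s hx
      rw [n2, zero_smul, add_zero] at h
      have h3 : (3 : F) = 1 := by linear_combination n2
      rw [h3, one_smul] at h
      exact h)
    (fun x (hx : Yv ρ C x) => T.Ys hx) (x := v) hv v0
  have hs := T.claim_s hC hw hw1
  have hw' : Yv ρ C w := hw
  exact ⟨w, w0, fun g h10 h20 => point_mem (K := fixK ρ w) (T.x12v hw'.Cv) (T.x13v hw'.Cv) (T.x23v hw'.Cv) hw'.h1v
    hw'.h2v hw'.h3v hs g h10 h20⟩

end Rp

section sys

variable (ρ : G →* End F V) (w : V) (hw : ∀ g : G, g.1 1 0 = 0 → g.1 2 0 = 0 → ρ g w = w)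
variable (hirr : ∀ W : Submodule F V, (∀ g : G, ∀ v ∈ W, ρ g v ∈ W) → W = ⊥ ∨ W = ⊤) (hne : ρ x12 ≠ 1)

include hw in
/-- the group permutes the 13 vectors -/
theorem exists_perm13 (g : G) : ∃ σ : Equiv.Perm (Fin 13), ∀ i, ρ g (vv ρ w (pt i)) = vv ρ w (pt (σ i)) := by
  choose σ hσ using fun i => pt_surj _ (mulVec_ne g (pt_ne i))
  have hinj : Function.Injective σ := by
    intro i j h
    apply pt_inj
    have h1 := hσ i
    have h2 := hσ j
    rw [← h] at h2
    have h3 : g.1 *ᵥ pt i = g.1 *ᵥ pt j ∨ g.1 *ᵥ pt i = -(g.1 *ᵥ pt j) := by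
      rcases h1 with h1 | h1 <;> rcases h2 with h2 | h2
      · left; rw [h1, h2]
      · right; rw [h1, h2, neg_neg]
      · right; rw [h1, h2]
      · left; rw [h1, h2]
    rcases h3 with h3 | h3
    · left
      have h4 := congrArg (fun z => (g⁻¹).1 *ᵥ z) h3
      simpa only [inv_mulVec'] using h4
    · right
      have h4 := congrArg (fun z => (g⁻¹).1 *ᵥ z) h3
      simpa only [inv_mulVec', Matrix.mulVec_neg] using h4
  refine ⟨Equiv.ofBijective _ (Finite.injective_iff_bijective.1 hinj), fun i => ?_⟩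
  rw [vv_smul ρ w hw]
  change vv ρ w (g.1 *ᵥ pt i) = vv ρ w (pt (σ i))
  rcases hσ i with h | h
  · rw [h]
  · rw [h, vv_neg ρ w hw]

include hw hirr hne in
theorem sum_zero' : ∑ i, vv ρ w (pt i) = 0 := by
  apply fix_zero ρ hirr hne
  intro g
  obtain ⟨σ, hσ⟩ := exists_perm13 ρ w hw g
  rw [map_sum]
  simp only [hσ]
  exact Equiv.sum_comp σ (fun i => vv ρ w (pt i))

include hw hirr hne in
/-- **the vector system** -/
theorem sys' (h12 : finrank F V = 12) (hw0 : w ≠ 0) : Cfsg.Agent.H882.Del.Sys F (fun i => vv ρ w (pt i)) where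
  span := span_top ρ w hw hirr hw0
  card := by rw [h12]; rfl
  pos := by rw [h12]; norm_num
  sum := sum_zero' ρ w hw hirr hne

end sys

end Cfsg.Agent.H907.L33
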